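import Groth.Agent.L27.MV.Main
import Groth.Agent.L28.FieldTower.Base
import Groth.Agent.L22.BM.Dim
import Mathlib.AlgebraicGeometry.Morphisms.QuasiCompact
import Mathlib.AlgebraicGeometry.Morphisms.FiniteType
import Mathlib.AlgebraicGeometry.Morphisms.Separated
import Mathlib.RingTheory.KrullDimension.Polynomial

/-! # Cohomological dimension from affine covers -/

set_option autoImplicit false
set_option linter.style.haveILetI false
set_option linter.unusedSectionVars false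
set_option backward.isDefEq.respectTransparency.types false

universe u

open CategoryTheory CategoryTheory.Limits AlgebraicGeometry Opposite CategoryTheory.Abelian

noncomputable section

namespace Groth.L28.CdFinite

open Groth.L27 Groth.L28.FieldTower

/-- Mayer–Vietoris for cohomological dimension. -/
theorem cdLE_union {ℓ a : ℕ} {X : Scheme.{u}} (U V : X.Opens) (h : U ⊔ V = ⊤) (hU : CdLE ℓ (U : Scheme.{u}) a)
    (hV : CdLE ℓ (V : Scheme.{u}) a) (hUV : CdLE ℓ ((U ⊓ V : X.Opens) : Scheme.{u}) a) : CdLE ℓ X (a + 1) := by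
  intro F hF q hq
  obtain ⟨n, rfl⟩ : ∃ n, q = n + 1 := ⟨q - 1, by omega⟩
  have key : ∀ (W : X.Opens) (m : ℕ), CdLE ℓ (W : Scheme.{u}) a → a < m →
      Subsingleton (Ext (Colim.freeSh (MV.oE W)) F m) := by
    intro W m hW hm
    haveI := EtSite.preservesFiniteLimits_pull W.ι
    haveI := hW _ (CompTransfer.isLTorsion_pull {ℓ} W.ι hF) m hm
    exact (MV.ΦEquiv W F m).toEquiv.subsingleton
  have hS := MV.shortExact_mvE U V h
  refine subsingleton_of_forall_eq 0 fun x => ?_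
  have hg : (Ext.mk₀ (MV.mvE U V).g).comp x (zero_add (n + 1)) = 0 := by
    rw [MV.biprod_ext F (n + 1) ((Ext.mk₀ (MV.mvE U V).g).comp x (zero_add (n + 1))),
      @Subsingleton.elim _ (key U (n + 1) hU (by omega)) ((Ext.mk₀ biprod.inl).comp _ _) 0,
      @Subsingleton.elim _ (key V (n + 1) hV (by omega)) ((Ext.mk₀ biprod.inr).comp _ _) 0]
    simp
    rfl
  obtain ⟨z, hz⟩ := Ext.contravariant_sequence_exact₃ hS F x hg (add_comm 1 n)
  have hz0 : z = 0 := @Subsingleton.elim _ (key (U ⊓ V) n hUV (by omega)) z 0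
  rw [← hz, hz0]
  simp
  rfl

theorem cdLE_of_isEmpty {ℓ : ℕ} (X : Scheme.{u}) [IsEmpty X] (a : ℕ) : CdLE ℓ X a := by
  intro F _ q _
  have hz : IsZero F := (EtSite.isZero_iff_stalks F).2 fun Ω _ _ ξ => isEmptyElim (ξ.base default)
  exact AddCommGrpCat.subsingleton_of_isZero ((EtCoh.HF X q).map_isZero hz)

theorem cdLE_mono {ℓ a b : ℕ} {X : Scheme.{u}} (h : CdLE ℓ X a) (hab : a ≤ b) : CdLE ℓ X b :=
  fun F hF q hq => h F hF q (by omega)

theorem cdLE_of_iso {ℓ a : ℕ} {X Y : Scheme.{u}} (e : X ≅ Y) (h : CdLE ℓ Y a) : CdLE ℓ X a :=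
  h.of_integral e.hom

/-- Union of two opens inside a scheme. -/
theorem cdLE_sup {ℓ a : ℕ} {Z : Scheme.{u}} (U V : Z.Opens) (hU : CdLE ℓ (U : Scheme.{u}) a)
    (hV : CdLE ℓ (V : Scheme.{u}) a) (hUV : CdLE ℓ ((U ⊓ V : Z.Opens) : Scheme.{u}) a) :
    CdLE ℓ ((U ⊔ V : Z.Opens) : Scheme.{u}) (a + 1) := by
  let W : Z.Opens := U ⊔ V
  have e : ∀ T : Z.Opens, T ≤ W → ∀ b, CdLE ℓ (T : Scheme.{u}) b →
      CdLE ℓ ((W.ι ⁻¹ᵁ T : W.toScheme.Opens) : Scheme.{u}) b := by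
    intro T hT b hb
    refine cdLE_of_iso ?_ hb
    exact (IsOpenImmersion.isoOfRangeEq ((W.ι ⁻¹ᵁ T).ι ≫ W.ι) T.ι (by
      rw [Scheme.Hom.comp_base, TopCat.coe_comp, Set.range_comp, Scheme.Opens.range_ι, Scheme.Opens.range_ι]
      exact (Set.image_preimage_eq_inter_range.trans (Set.inter_eq_left.2 fun z hz => W.range_ι.ge (hT hz)))))
  refine cdLE_union (W.ι ⁻¹ᵁ U) (W.ι ⁻¹ᵁ V) ?_ (e U le_sup_left a hU) (e V le_sup_right a hV) ?_
  · refine top_le_iff.1 fun x _ => ?_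
    exact (x.2 : x.1 ∈ U ⊔ V)
  · exact e (U ⊓ V) (inf_le_left.trans le_sup_left) a hUV

/-- The bound property of an open subscheme, uniformly in affine morphisms to it. -/
def HasBound (X : Scheme.{u}) (ℓ d₀ : ℕ) (d : ℕ) (S : X.Opens) : Prop :=
  ∀ (Z : Scheme.{u}) (p : Z ⟶ X), (∀ W : X.Opens, IsAffineOpen W → CdLE ℓ ((p ⁻¹ᵁ W : Z.Opens) : Scheme.{u}) d₀) →
    CdLE ℓ ((p ⁻¹ᵁ S : Z.Opens) : Scheme.{u}) d

variable {X : Scheme.{u}}

theorem hasBound_bot (ℓ d₀ : ℕ) : HasBound X ℓ d₀ 0 ⊥ := fun Z p _ =>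
  haveI : IsEmpty ((p ⁻¹ᵁ (⊥ : X.Opens) : Z.Opens) : Scheme.{u}) := ⟨fun z => z.2⟩
  cdLE_of_isEmpty _ 0

theorem hasBound_affine (ℓ d₀ : ℕ) {S : X.Opens} (hS : IsAffineOpen S) : HasBound X ℓ d₀ d₀ S :=
  fun _ _ h => h S hS

theorem HasBound.sup {ℓ d₀ a b c : ℕ} {S T : X.Opens} (hS : HasBound X ℓ d₀ a S) (hT : HasBound X ℓ d₀ b T)
    (hST : HasBound X ℓ d₀ c (S ⊓ T)) : HasBound X ℓ d₀ (a + b + c + 1) (S ⊔ T) := fun Z p h =>
  cdLE_sup (p ⁻¹ᵁ S) (p ⁻¹ᵁ T) (cdLE_mono (hS Z p h) (by omega)) (cdLE_mono (hT Z p h) (by omega))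
    (cdLE_mono (hST Z p h) (by omega))

/-- Opens of an affine open. -/
theorem exists_bound_in_affine (d₀ : ℕ) {V : X.Opens} (hV : IsAffineOpen V) (S : X.Opens)
    (hS : IsCompact (S : Set X)) :
    S ≤ V → ∀ U : X.Opens, IsAffineOpen U → U ≤ V →
      (∃ d, ∀ ℓ, HasBound X ℓ d₀ d S) ∧ ∃ d, ∀ ℓ, HasBound X ℓ d₀ d (S ⊓ U) := by
  refine compact_open_induction_on (P := fun S => S ≤ V → ∀ U : X.Opens, IsAffineOpen U → U ≤ V →
    (∃ d, ∀ ℓ, HasBound X ℓ d₀ d S) ∧ ∃ d, ∀ ℓ, HasBound X ℓ d₀ d (S ⊓ U)) S hS ?_ ?_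
  · intro _ U _ _
    exact ⟨⟨0, fun ℓ => hasBound_bot ℓ d₀⟩, ⟨0, fun ℓ => by rw [bot_inf_eq]; exact hasBound_bot ℓ d₀⟩⟩
  · intro S _ T ih hle U hU hUV
    have hinf : ∀ A B : X.Opens, IsAffineOpen A → IsAffineOpen B → A ≤ V → B ≤ V → IsAffineOpen (A ⊓ B) := by
      intro A B hA hB hAV hBV
      haveI : IsAffine (V : Scheme.{u}) := hV
      have e : V.ι ''ᵁ ((V.ι ⁻¹ᵁ A) ⊓ (V.ι ⁻¹ᵁ B)) = A ⊓ B := by
        rw [← Scheme.Hom.preimage_inf, Scheme.Hom.image_preimage_eq_opensRange_inf, Scheme.Opens.opensRange_ι]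
        exact inf_eq_right.2 (inf_le_left.trans hAV)
      rw [← e]
      refine IsAffineOpen.image_of_isOpenImmersion ?_ V.ι
      exact (hA.preimage_of_isOpenImmersion V.ι (hAV.trans V.opensRange_ι.ge)).inf
        (hB.preimage_of_isOpenImmersion V.ι (hBV.trans V.opensRange_ι.ge))
    have hTV : T.1 ≤ V := le_sup_right.trans hle
    obtain ⟨⟨a, ha⟩, ⟨c, hc⟩⟩ := ih (le_sup_left.trans hle) T.1 T.2 hTV
    obtain ⟨-, ⟨a', ha'⟩⟩ := ih (le_sup_left.trans hle) U hU hUV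
    obtain ⟨-, ⟨c', hc'⟩⟩ := ih (le_sup_left.trans hle) (T.1 ⊓ U) (hinf _ _ T.2 hU hTV hUV) (inf_le_left.trans hTV)
    refine ⟨⟨a + d₀ + c + 1, fun ℓ => (ha ℓ).sup (hasBound_affine ℓ d₀ T.2) (hc ℓ)⟩,
      ⟨a' + d₀ + c' + 1, fun ℓ => ?_⟩⟩
    rw [inf_sup_right]
    refine (ha' ℓ).sup (hasBound_affine ℓ d₀ (hinf _ _ T.2 hU hTV hUV)) ?_
    rw [← inf_inf_distrib_right, inf_assoc]
    exact hc' ℓ

/-- Quasi-compact quasi-separated schemes. -/
theorem exists_bound [CompactSpace X] [QuasiSeparatedSpace X] (d₀ : ℕ) :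
    ∃ d, ∀ (ℓ : ℕ) (Z : Scheme.{u}) (p : Z ⟶ X),
      (∀ W : X.Opens, IsAffineOpen W → CdLE ℓ ((p ⁻¹ᵁ W : Z.Opens) : Scheme.{u}) d₀) → CdLE ℓ Z d := by
  have h : ∃ d, ∀ ℓ, HasBound X ℓ d₀ d (⊤ : X.Opens) := by
    refine compact_open_induction_on (P := fun S => ∃ d, ∀ ℓ, HasBound X ℓ d₀ d S) ⊤ isCompact_univ
      ⟨0, fun ℓ => hasBound_bot ℓ d₀⟩ ?_
    intro S hS T ⟨a, ha⟩
    obtain ⟨⟨c, hc⟩, -⟩ := exists_bound_in_affine d₀ T.2 (S ⊓ T.1)
      (QuasiSeparatedSpace.inter_isCompact _ _ S.2 hS T.1.2 T.2.isCompact) inf_le_right T.1 T.2 le_rfl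
    exact ⟨a + d₀ + c + 1, fun ℓ => (ha ℓ).sup (hasBound_affine ℓ d₀ T.2) (hc ℓ)⟩
  obtain ⟨d, hd⟩ := h
  exact ⟨d, fun ℓ Z p hp => cdLE_of_iso (Scheme.topIso Z).symm (hd ℓ Z p hp)⟩

attribute [local instance] specializationOrder in
/-- Schemes of finite type over a field have finite dimension. -/
theorem exists_dim_bound (k : Type u) [Field k] (X : Scheme.{u}) (a : X ⟶ Spec (CommRingCat.of k))
    [LocallyOfFiniteType a] [CompactSpace X] : ∃ n : ℕ, topologicalKrullDim X ≤ n := by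
  have hA : ∀ V : X.Opens, IsAffineOpen V → ∃ n : ℕ, topologicalKrullDim (V : Scheme.{u}) ≤ n := by
    intro V hV
    haveI : IsAffine (V : Scheme.{u}) := hV
    haveI : LocallyOfFiniteType (V.ι ≫ a) := inferInstance
    obtain ⟨φ, hφ⟩ := Spec.map_surjective ((V : Scheme.{u}).isoSpec.inv ≫ V.ι ≫ a)
    have hft : LocallyOfFiniteType (Spec.map φ) := by rw [hφ]; infer_instance
    letI : Algebra k Γ((V : Scheme.{u}), ⊤) := φ.hom.toAlgebra
    haveI : Algebra.FiniteType k Γ((V : Scheme.{u}), ⊤) :=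
      RingHom.finiteType_algebraMap.mp (HasRingHomProperty.Spec_iff.mp hft)
    obtain ⟨n, f, hf⟩ := Algebra.FiniteType.iff_quotient_mvPolynomial''.1
      (inferInstance : Algebra.FiniteType k Γ((V : Scheme.{u}), ⊤))
    refine ⟨n, ?_⟩
    rw [IsHomeomorph.topologicalKrullDim_eq _ (V : Scheme.{u}).isoSpec.hom.homeomorph.isHomeomorph,
      show topologicalKrullDim (Spec Γ((V : Scheme.{u}), ⊤)) = ringKrullDim Γ((V : Scheme.{u}), ⊤) from
        PrimeSpectrum.topologicalKrullDim_eq_ringKrullDim _]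
    refine (ringKrullDim_le_of_surjective f.toRingHom hf).trans ?_
    rw [MvPolynomial.ringKrullDim_of_isNoetherianRing, ringKrullDim_eq_zero_of_field, zero_add, Nat.card_fin]
  choose! n hn using hA
  obtain ⟨s, hs, hcov⟩ := isCompact_iff_finite_and_eq_biUnion_affineOpens.mp
    (show IsCompact ((⊤ : X.Opens) : Set X) from isCompact_univ)
  refine ⟨hs.toFinset.sup fun V => n V.1, ?_⟩
  rcases isEmpty_or_nonempty X with hX | hX
  · rw [L22.BM.topologicalKrullDim_eq_krullDim, Order.krullDim_eq_bot]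
    exact bot_le
  rw [L22.BM.topologicalKrullDim_eq_krullDim, Order.krullDim_eq_iSup_coheight_of_nonempty]
  refine WithBot.coe_le_coe.2 (iSup_le fun x => ?_)
  have hx : x ∈ (⊤ : X.Opens) := trivial
  rw [hcov] at hx
  obtain ⟨V, hx⟩ := TopologicalSpace.Opens.mem_iSup.1 hx
  obtain ⟨hVs, hxV⟩ := TopologicalSpace.Opens.mem_iSup.1 hx
  haveI : Nonempty (V.1 : Scheme.{u}) := ⟨⟨x, hxV⟩⟩
  have h1 := hn V.1 V.2
  rw [L22.BM.topologicalKrullDim_eq_krullDim, Order.krullDim_eq_iSup_coheight_of_nonempty] at h1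
  rw [show x = V.1.ι ⟨x, hxV⟩ from rfl, V.1.ι.isOpenEmbedding.coheight_eq]
  refine le_trans (le_trans (le_iSup (fun z => Order.coheight z) _) (WithBot.coe_le_coe.1 h1)) ?_
  exact ENat.coe_le_coe.2 (Finset.le_sup (f := fun V : X.affineOpens => n V.1) (hs.mem_toFinset.2 hVs))

end Groth.L28.CdFinite
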