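import Groth.Agent.L28.AffLef.Rpush
import Groth.Agent.L27.AffineEfface.Effacement

/-! # Cohomological dimension of affine schemes over strict localisations -/

set_option autoImplicit false
set_option linter.style.haveILetI false
set_option linter.unusedSectionVars false
set_option backward.isDefEq.respectTransparency.types false

universe u

open CategoryTheory CategoryTheory.Limits AlgebraicGeometry Opposite IsLocalRing

noncomputable section

namespace Groth.L28.CdFinite

open Groth.L27 Groth.L28.AffLef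

attribute [local instance] Curv2.resAlgebra

/-- The base change of a morphism of schemes of finite type over a field to a strict localisation. -/
theorem cdLE_strict_fibre (k : Type u) [Field k] {X Y : Scheme.{u}}
    (aX : X ⟶ Spec (CommRingCat.of k)) (aY : Y ⟶ Spec (CommRingCat.of k)) [LocallyOfFiniteType aX]
    [LocallyOfFiniteType aY] (f : X ⟶ Y) (w : f ≫ aY = aX) (y : Y) (R : Type u) [CommRing R] [IsLocalRing R]
    [Algebra (Y.presheaf.stalk y) R] [IsLocalHom (algebraMap (Y.presheaf.stalk y) R)]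
    [hS : Hensel.IsStrictHenselization (Y.presheaf.stalk y) R]
    [IsAffineHom (pullback.snd f (Hens2.specOf Y y R))]
    (d : ℕ) (hd : ∀ x : X, topologicalKrullDim (closure ({x} : Set X)) ≤ d) (ℓ : ℕ) :
    FieldTower.CdLE ℓ (pullback f (Hens2.specOf Y y R)) d := by
  intro G hG q hq
  letI : X.Over (Spec (CommRingCat.of k)) := ⟨aX⟩
  letI : Y.Over (Spec (CommRingCat.of k)) := ⟨aY⟩
  haveI : LocallyOfFiniteType (X ↘ Spec (CommRingCat.of k)) := ‹LocallyOfFiniteType aX›
  haveI : LocallyOfFiniteType (Y ↘ Spec (CommRingCat.of k)) := ‹LocallyOfFiniteType aY›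
  haveI : LocallyOfFiniteType f := by
    haveI : LocallyOfFiniteType (f ≫ aY) := w ▸ ‹LocallyOfFiniteType aX›
    exact locallyOfFiniteType_of_comp f aY
  haveI : IsLocallyNoetherian Y := LocallyOfFiniteType.isLocallyNoetherian aY
  haveI : IsSepClosed (ResidueField R) := hS.isSepClosure.sep_closed
  let sp := Hens2.specOf Y y R
  haveI : LocallyOfFiniteType (pullback.snd f sp) :=
    MorphismProperty.pullback_snd (P := @LocallyOfFiniteType) _ _ inferInstance
  refine subsingleton_H_strictLocal k Y aY y R _ (pullback.snd f sp) _ (AffineEfface.isTorsion_of_isLTorsion hG) d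
    (fun t _ => ?_) q hq
  let x := (pullback.fst f sp).base t
  obtain ⟨n, hn, htr⟩ := Groth.L22.SchemeDim.exists_dim_closure_eq_trdeg k X x
  have hnd : n ≤ d := by
    have := hn ▸ hd x
    exact_mod_cast this
  let y' : PrimeSpectrum R := (pullback.snd f sp).base t
  have hfx : sp.base y' = f.base x := by
    show sp.base ((pullback.snd f sp).base t) = f.base ((pullback.fst f sp).base t)
    rw [← Scheme.Hom.comp_apply, ← Scheme.Hom.comp_apply, pullback.condition]
  have hsum := Groth.Agent.L28.DeltaStrict.trdeg_residue_add k f w x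
  rw [htr] at hsum
  have hfin : ∀ z : Y, ∃ m : ℕ, Algebra.trdeg k (Y.residueField z) = m := fun z => by
    obtain ⟨m, -, hm⟩ := Groth.L22.SchemeDim.exists_dim_closure_eq_trdeg k Y z
    exact ⟨m, hm⟩
  choose φ hφ using hfin
  obtain ⟨c, hc⟩ : ∃ c : ℕ, (letI := (f.residueFieldMap x).hom.toAlgebra
      Algebra.trdeg (Y.residueField (f.base x)) (X.residueField x)) = c :=
    ⟨_, (Cardinal.cast_toNat_of_lt_aleph0 (lt_of_le_of_lt ((le_add_self).trans hsum.le) Cardinal.natCast_lt_aleph0)).symm⟩
  rw [hφ, hc] at hsum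
  have hsum' : φ (f.base x) + c = n := by exact_mod_cast hsum
  -- the dimension of `R / y'`
  have hlt : ∀ Q Q' : PrimeSpectrum R, Q < Q' → φ (sp.base Q') < φ (sp.base Q) := by
    intro Q Q' h
    have hne : sp.base Q ≠ sp.base Q' := fun e => by
      rw [show sp = Spec.map (CommRingCat.ofHom (algebraMap (Y.presheaf.stalk y) R)) ≫ Y.fromSpecStalk y from rfl,
        Scheme.Hom.comp_apply, Scheme.Hom.comp_apply] at e
      have e' := (Y.fromSpecStalk y).isEmbedding.injective e
      have e'' := DimFun.eq_of_le_of_comap_eq (Y.presheaf.stalk y) R (Q := Q.asIdeal) (P := Q'.asIdeal)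
        h.le (congrArg PrimeSpectrum.asIdeal e')
      exact h.ne (PrimeSpectrum.ext e'')
    have hsp : sp.base Q ⤳ sp.base Q' := ((PrimeSpectrum.le_iff_specializes Q Q').1 h.le).map sp.continuous
    obtain ⟨i, j, hi, hj, hij⟩ := Groth.L18.CurveDim.trdeg_lt_of_specializes (k := k) hsp hne
    rw [hφ] at hi hj
    have hi' : φ (sp.base Q') = i := by exact_mod_cast hi
    have hj' : φ (sp.base Q) = j := by exact_mod_cast hj
    omega
  have hdim : ringKrullDim (R ⧸ y'.asIdeal) ≤ (φ (f.base x) : ℕ) := by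
    rw [ringKrullDim_quotient]
    refine iSup_le fun l => ?_
    have key : ∀ (i : ℕ) (hi : i < l.length + 1), φ (sp.base (l ⟨i, hi⟩).1) + i ≤ φ (sp.base l.head.1) := by
      intro i
      induction i with
      | zero => exact fun _ => le_rfl
      | succ i ih =>
        intro hi
        have h1 := ih (by omega)
        have h2 := hlt (l ⟨i, by omega⟩).1 (l ⟨i + 1, hi⟩).1 (l.strictMono (Fin.mk_lt_mk.2 (Nat.lt_succ_self i)))
        omega
    have h1 := key l.length (Nat.lt_succ_self _)
    have h2 : φ (sp.base l.head.1) ≤ φ (f.base x) := by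
      rw [← hfx]
      rcases (show y' ≤ l.head.1 from l.head.2).lt_or_eq with h | h
      · exact (hlt _ _ h).le
      · exact le_of_eq (congrArg (fun z => φ (sp.base z)) h.symm)
    exact_mod_cast (show l.length ≤ φ (f.base x) by omega)
  haveI : Nontrivial (R ⧸ y'.asIdeal) := Ideal.Quotient.nontrivial_iff.2 y'.2.ne_top
  obtain ⟨a, ha, hale⟩ : ∃ a : ℕ, ringKrullDim (R ⧸ y'.asIdeal) = a ∧ a ≤ φ (f.base x) := by
    have h0 : (0 : WithBot ℕ∞) ≤ ringKrullDim (R ⧸ y'.asIdeal) := ringKrullDim_nonneg_of_nontrivial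
    obtain ⟨m, hm⟩ := WithBot.ne_bot_iff_exists.1 (ne_bot_of_le_ne_bot WithBot.zero_ne_bot h0)
    rw [← hm] at hdim ⊢
    obtain ⟨a, rfl⟩ := ENat.ne_top_iff_exists.1
      (ne_top_of_le_ne_top (ENat.natCast_ne_top _) (WithBot.coe_le_coe.1 hdim))
    exact ⟨a, rfl, by exact_mod_cast hdim⟩
  refine ⟨a, c, ha, ?_, by omega⟩
  exact (Groth.Agent.L28.DeltaStrict.trdeg_of_algebraic_base f sp
    (fun z => Groth.Agent.L28.DeltaStrict.isAlgebraic_residue_specOf Y y R z) t).trans hc

end Groth.L28.CdFinite
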