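import Groth.Agent.L28.CdFinite.Bound
import Groth.Agent.L28.CdFinite.Fibre
import Groth.Agent.L28.AffLef.Main

/-! # Finiteness of cohomological dimension for schemes of finite type over a field -/

set_option autoImplicit false
set_option linter.style.haveILetI false
set_option linter.unusedSectionVars false
set_option backward.isDefEq.respectTransparency.types false

universe u

open CategoryTheory CategoryTheory.Limits AlgebraicGeometry Opposite IsLocalRing

noncomputable section

namespace Groth.L28.CdFinite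

open Groth.L27 Groth.L28.FieldTower

theorem exists_cohDimLE (K : Type u) [Field K] (X : Scheme.{u}) (a : X ⟶ Spec (CommRingCat.of K))
    [LocallyOfFiniteType a] [QuasiCompact a] (e : ℕ) (hK : EtCoh.CohDimLE (Spec (CommRingCat.of K)) e) :
    ∃ d : ℕ, EtCoh.CohDimLE X d := by
  haveI : CompactSpace X := QuasiCompact.compactSpace_of_compactSpace a
  haveI : IsLocallyNoetherian X := LocallyOfFiniteType.isLocallyNoetherian a
  obtain ⟨n, hn⟩ := exists_dim_bound K X a
  obtain ⟨d, hd⟩ := exists_bound (X := X) (n + e)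
  refine ⟨d, AffLef.cohDimLE_of_primes fun ℓ hℓ => hd ℓ X (𝟙 X) fun W hW => ?_⟩
  haveI : IsAffine (W : Scheme.{u}) := hW
  exact AffLef.cdLE_of_cohDimLE (AffLef.cohDimLE_affine K (W : Scheme.{u}) (W.ι ≫ a) n e
    (le_trans W.ι.isOpenEmbedding.isEmbedding.isInducing.topologicalKrullDim_le hn) hK) ℓ

theorem exists_relCohDimLE (K : Type u) [Field K] {X Y : Scheme.{u}}
    (a : X ⟶ Spec (CommRingCat.of K)) (b : Y ⟶ Spec (CommRingCat.of K))
    [LocallyOfFiniteType a] [QuasiCompact a] [LocallyOfFiniteType b] [QuasiCompact b]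
    (f : X ⟶ Y) (w : f ≫ b = a) [EtCoh.BCCont f] :
    ∃ d : ℕ, EtCoh.RelCohDimLE f d := by
  haveI : CompactSpace X := QuasiCompact.compactSpace_of_compactSpace a
  haveI : CompactSpace Y := QuasiCompact.compactSpace_of_compactSpace b
  haveI : IsLocallyNoetherian X := LocallyOfFiniteType.isLocallyNoetherian a
  haveI : IsLocallyNoetherian Y := LocallyOfFiniteType.isLocallyNoetherian b
  haveI : IsNoetherian X := {}
  haveI : IsNoetherian Y := {}
  haveI : QuasiCompact f := inferInstance
  haveI : QuasiSeparated f := inferInstance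
  obtain ⟨n, hn⟩ := exists_dim_bound K X a
  obtain ⟨s, hs, hcov⟩ := isCompact_iff_finite_and_eq_biUnion_affineOpens.mp
    (show IsCompact ((⊤ : Y.Opens) : Set Y) from isCompact_univ)
  have hV : ∀ V : Y.affineOpens, ∃ d, ∀ (ℓ : ℕ) (y : Y), y ∈ V.1 → ∀ (R : Type u) [CommRing R] [IsLocalRing R]
      [Algebra (Y.presheaf.stalk y) R] [IsLocalHom (algebraMap (Y.presheaf.stalk y) R)]
      [Hensel.IsStrictHenselization (Y.presheaf.stalk y) R], CdLE ℓ (pullback f (Hens2.specOf Y y R)) d := by
    intro V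
    let X₀ := ((f ⁻¹ᵁ V.1 : X.Opens) : Scheme.{u})
    haveI : CompactSpace X₀ := isCompact_iff_compactSpace.mp (f.isCompact_preimage V.2.isCompact)
    haveI : QuasiSeparatedSpace X₀ := inferInstance
    obtain ⟨d, hd⟩ := exists_bound (X := X₀) n
    refine ⟨d, fun ℓ y hy R _ _ _ _ _ => ?_⟩
    let sp := Hens2.specOf Y y R
    have hsp : Set.range sp.base ⊆ Set.range V.1.ι.base := by
      rintro _ ⟨P, rfl⟩
      rw [Scheme.Opens.range_ι]
      have h1 : sp.base P ∈ Set.range (Y.fromSpecStalk y) := ⟨_, (Scheme.Hom.comp_apply _ _ _).symm⟩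
      rw [Scheme.range_fromSpecStalk] at h1
      exact h1.mem_open V.1.2 hy
    let r : Spec (CommRingCat.of R) ⟶ (V.1 : Scheme.{u}) := IsOpenImmersion.lift V.1.ι sp hsp
    have hr : r ≫ V.1.ι = sp := IsOpenImmersion.lift_fac _ _ _
    haveI : IsAffine (V.1 : Scheme.{u}) := V.2
    haveI : IsAffineHom r := inferInstance
    let fV : X₀ ⟶ (V.1 : Scheme.{u}) := f ∣_ V.1
    let Z := pullback fV r
    have P : IsPullback (pullback.fst fV r ≫ (f ⁻¹ᵁ V.1).ι) (pullback.snd fV r) f sp :=
      hr ▸ (IsPullback.of_hasPullback fV r).paste_horiz (isPullback_morphismRestrict f V.1).flip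
    refine cdLE_of_iso P.isoPullback.symm (hd ℓ Z (pullback.fst fV r) fun W hW => ?_)
    haveI : IsAffine (W : Scheme.{u}) := hW
    let fW : (W : Scheme.{u}) ⟶ Y := W.ι ≫ (f ⁻¹ᵁ V.1).ι ≫ f
    let p := pullback.fst fV r
    haveI : IsAffineHom p := MorphismProperty.pullback_fst (P := @IsAffineHom) _ _ inferInstance
    let ι₀ := (f ⁻¹ᵁ V.1).ι
    have P' : IsPullback p (pullback.snd fV r) (ι₀ ≫ f) sp :=
      IsPullback.of_isLimit' ⟨(Category.assoc _ _ _).symm.trans P.w⟩
        (PullbackCone.IsLimit.mk _ (fun c => P.lift (c.fst ≫ ι₀) c.snd (by rw [Category.assoc]; exact c.condition))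
          (fun c => by rw [← cancel_mono ι₀, Category.assoc]; exact P.lift_fst _ _ _)
          (fun c => P.lift_snd _ _ _)
          (fun c m h₁ h₂ => P.hom_ext
            (by rw [P.lift_fst, ← h₁, Category.assoc])
            (by rw [P.lift_snd]; exact h₂)))
    have Q : IsPullback (p ∣_ W) ((p ⁻¹ᵁ W).ι ≫ pullback.snd fV r) (W.ι ≫ ι₀ ≫ f) sp :=
      (isPullback_morphismRestrict p W).paste_vert P'
    haveI : IsAffine ((p ⁻¹ᵁ W : Z.Opens) : Scheme.{u}) := hW.preimage p
    haveI : IsAffine (pullback fW sp) := IsAffine.of_isIso Q.isoPullback.inv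
    haveI : IsAffineHom (pullback.snd fW sp) := inferInstance
    refine cdLE_of_iso Q.isoPullback (cdLE_strict_fibre K (W.ι ≫ ι₀ ≫ a) b fW ?_ y R n (fun x => ?_) ℓ)
    · show (W.ι ≫ ι₀ ≫ f) ≫ b = _
      simp [w]
    · refine le_trans (topologicalKrullDim_subspace_le _ _) (le_trans ?_ hn)
      exact (W.ι ≫ ι₀).isOpenEmbedding.isEmbedding.isInducing.topologicalKrullDim_le
  choose d hd using hV
  refine ⟨hs.toFinset.sup d, fun F hF q hq => (EtSite.isZero_iff_stalks _).2 fun Ω _ _ ξ => ?_⟩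
  obtain ⟨R, _, _, _, _, hS⟩ := L05.Henselization.exists_isStrictHenselization (Y.presheaf.stalk (ξ.base default))
  haveI : IsSepClosed (ResidueField R) := hS.isSepClosure.sep_closed
  obtain ⟨e⟩ := StalkRpush.nonempty_natIso f (ξ.base default) R q
  refine DimFun.isZero_stalk_of_base (Hens2.geomPt Y (ξ.base default) R) ξ (PBC.geomPt_default _ _ R).symm ?_
  refine IsZero.of_iso (@AddCommGrpCat.isZero_of_subsingleton _ ?_) (e.app F)
  have hy : ξ.base default ∈ (⊤ : Y.Opens) := trivial
  rw [hcov] at hy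
  obtain ⟨V, hy⟩ := TopologicalSpace.Opens.mem_iSup.1 hy
  obtain ⟨hVs, hyV⟩ := TopologicalSpace.Opens.mem_iSup.1 hy
  let g := pullback.fst f (Hens2.specOf Y (ξ.base default) R)
  haveI : CompactSpace (pullback f (Hens2.specOf Y (ξ.base default) R) : Scheme.{u}) :=
    QuasiCompact.compactSpace_of_compactSpace (pullback.snd f (Hens2.specOf Y (ξ.base default) R))
  haveI : QuasiSeparatedSpace (pullback f (Hens2.specOf Y (ξ.base default) R) : Scheme.{u}) :=
    quasiSeparatedSpace_of_quasiSeparated (pullback.snd f (Hens2.specOf Y (ξ.base default) R))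
  exact AffLef.cohDimLE_of_primes (fun ℓ _ => hd V ℓ (ξ.base default) hyV R) _ (CurveCd.isTorsion_pull g hF) q
    (lt_of_le_of_lt (Finset.le_sup (f := d) (hs.mem_toFinset.2 hVs)) hq)

end Groth.L28.CdFinite
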